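import Mathlib
import Cfsg.Agent.Lib.Helper89.N2R.Defs
import Cfsg.Agent.Lib.Helper48.GL2Syl

set_option autoImplicit false

namespace Cfsg.Agent.Lib.N2R
open Function Matrix

theorem G3_elemAb_iff {G : Type*} [Group G] (A : Subgroup G) :
    Cfsg.IsElementaryAbelian 2 A ↔ (∀ a ∈ A, ∀ b ∈ A, a * b = b * a) ∧ ∀ a ∈ A, a ^ 2 = 1 := by
  constructor
  · rintro ⟨h1, h2⟩
    refine ⟨fun a ha b hb => ?_, h2⟩
    have := h1.is_comm.comm (⟨a, ha⟩ : A) ⟨b, hb⟩
    exact congrArg Subtype.val this
  · rintro ⟨h1, h2⟩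
    exact ⟨⟨⟨fun a b => Subtype.ext (h1 a.1 a.2 b.1 b.2)⟩⟩, h2⟩

theorem G3_good_of_equiv {G H : Type*} [Group G] [Group H] (e : G ≃* H) (h : Good G) : Good H := by
  obtain ⟨Z₀, hcard, hnorm, hmax, x₀, hx₀⟩ := h
  refine ⟨Z₀.map e.toMonoidHom, ?_, hnorm.map e.toMonoidHom e.surjective, ?_, e x₀, ?_⟩
  · rw [Subgroup.card_map_of_injective e.injective, hcard]
  · intro A hA hel
    have h1 : A.comap e.toMonoidHom ≤ Z₀ := by
      apply hmax _ (hA.comap _)
      rw [G3_elemAb_iff] at hel ⊢
      constructor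
      · intro a ha b hb
        apply e.injective
        rw [map_mul, map_mul]
        exact hel.1 _ ha _ hb
      · intro a ha
        apply e.injective
        rw [map_pow, map_one]
        exact hel.2 _ ha
    intro y hy
    refine ⟨e.symm y, h1 ?_, by simp⟩
    change e (e.symm y) ∈ A
    simpa using hy
  · intro h
    apply hx₀
    apply e.injective
    rw [map_pow, map_one, h]

variable {F : Type*} [Field F]

open Cfsg.Agent.Lib.Helper48

theorem G3_sq_one [Fintype F] (hq : 4 ∣ Fintype.card F + 1) (h2 : (2 : F) ≠ 0)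
    {a : Matrix (Fin 2) (Fin 2) F} (ha : IsCT a) (h : a * a = 1) : a = 1 ∨ a = -1 := by
  obtain ⟨a1, a2⟩ := ha
  have e10 := congrFun (congrFun h 1) 0
  have e11 := congrFun (congrFun h 1) 1
  simp only [Matrix.mul_apply, Fin.sum_univ_two, Matrix.one_apply_eq] at e10 e11
  rw [Matrix.one_apply_ne (by decide)] at e10
  rw [a1] at e10
  rw [a2] at e11
  have h3 : a 1 0 * a 1 1 = 0 := by
    have : (2 : F) * (a 1 0 * a 1 1) = 0 := by linear_combination e10
    exact (mul_eq_zero.1 this).resolve_left h2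
  rcases mul_eq_zero.1 h3 with hb | hα
  · rw [hb] at e11
    have h4 : (a 1 1 - 1) * (a 1 1 + 1) = 0 := by linear_combination e11
    rcases mul_eq_zero.1 h4 with h5 | h5
    · left
      have h6 : a 1 1 = 1 := by linear_combination h5
      ext i j
      fin_cases i <;> fin_cases j <;> simp [a1, a2, hb, h6]
    · right
      have h6 : a 1 1 = -1 := by linear_combination h5
      ext i j
      fin_cases i <;> fin_cases j <;> simp [a1, a2, hb, h6]
  · exfalso
    rw [hα] at e11
    have := sq_add_sq_eq_zero hq 1 (a 1 0) (by linear_combination -e11)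
    exact one_ne_zero this.1

theorem G3_sq_neg_one [Fintype F] (hq : 4 ∣ Fintype.card F + 1) (h2 : (2 : F) ≠ 0)
    {a : Matrix (Fin 2) (Fin 2) F} (ha : IsCT a) (h : a * a = -1) :
    a = (iGL F).1 ∨ a = -(iGL F).1 := by
  obtain ⟨a1, a2⟩ := ha
  have e10 := congrFun (congrFun h 1) 0
  have e11 := congrFun (congrFun h 1) 1
  simp only [Matrix.mul_apply, Fin.sum_univ_two, Matrix.neg_apply, Matrix.one_apply_eq] at e10 e11
  rw [Matrix.one_apply_ne (by decide)] at e10
  rw [a1] at e10
  rw [a2] at e11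
  have h3 : a 1 0 * a 1 1 = 0 := by
    have : (2 : F) * (a 1 0 * a 1 1) = 0 := by linear_combination e10
    exact (mul_eq_zero.1 this).resolve_left h2
  have hi : (iGL F).1 = !![0, -1; 1, 0] := rfl
  rcases mul_eq_zero.1 h3 with hb | hα
  · exfalso
    rw [hb] at e11
    have := sq_add_sq_eq_zero hq 1 (a 1 1) (by linear_combination e11)
    exact one_ne_zero this.1
  · rw [hα] at e11
    have h4 : (a 1 0 - 1) * (a 1 0 + 1) = 0 := by linear_combination -e11
    rcases mul_eq_zero.1 h4 with h5 | h5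
    · left
      have h6 : a 1 0 = 1 := by linear_combination h5
      rw [hi]
      ext i j
      fin_cases i <;> fin_cases j <;> simp [a1, a2, hα, h6]
    · right
      have h6 : a 1 0 = -1 := by linear_combination h5
      rw [hi]
      ext i j
      fin_cases i <;> fin_cases j <;> simp [a1, a2, hα, h6]

/-- G3 -/
theorem good_GL2 {F : Type*} [Field F] [Fintype F] (hq : 4 ∣ Fintype.card F + 1)
    (S : Sylow 2 (GL (Fin 2) F)) : Good (S : Subgroup (GL (Fin 2) F)) := by
  classical
  have h2 : (2 : F) ≠ 0 := by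
    intro h
    have := sq_add_sq_eq_zero hq 1 1 (by linear_combination h)
    exact one_ne_zero this.1
  set q := Fintype.card F with hqdef
  have hq1 : 1 < q := Fintype.one_lt_card
  have hne : q ^ 2 - 1 ≠ 0 := by
    have : 1 < q ^ 2 := Nat.one_lt_pow (by omega) hq1
    omega
  let i₀ : torusN F := ⟨iGL F, Or.inl iGL_CT⟩
  have hi4 : i₀ ^ 4 = 1 := by
    apply Subtype.ext
    apply Units.ext
    change ((iGL F) ^ 4).1 = 1
    have : (iGL F) ^ 4 = ((iGL F) ^ 2) ^ 2 := by rw [← pow_mul]
    rw [this, Units.val_pow_eq_pow_val, iGL_sq]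
    simp
  have hP : IsPGroup 2 (Subgroup.zpowers i₀) := by
    rintro ⟨g, n, rfl⟩
    refine ⟨2, Subtype.ext ?_⟩
    change (i₀ ^ n) ^ 2 ^ 2 = 1
    rw [← zpow_natCast, ← _root_.zpow_mul, mul_comm, _root_.zpow_mul, zpow_natCast]
    norm_num [hi4]
  obtain ⟨P₀, hP₀⟩ := hP.exists_le_sylow
  have hcardP : Nat.card P₀ = 2 ^ ((q ^ 2 - 1).factorization 2 + 1) := by
    rw [P₀.card_eq_multiplicity, card_torusN hq h2, Nat.factorization_mul hne (by norm_num),
      Finsupp.add_apply, Nat.prime_two.factorization_self]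
  have hle' : torusC F ≤ torusN F := fun g hg => Or.inl hg
  obtain ⟨t, ht⟩ : ∃ t : P₀, IsWT t.1.1.1 := by
    by_contra hcon
    push Not at hcon
    have hle : (P₀ : Subgroup (torusN F)) ≤ (torusC F).subgroupOf (torusN F) := by
      intro x hx
      rcases x.2 with h | h
      · exact h
      · exact absurd h (hcon ⟨x, hx⟩)
    have hdvd := Subgroup.card_dvd_of_le hle
    rw [hcardP, Nat.card_congr (Subgroup.subgroupOfEquivOfLe hle').toEquiv, card_torusC hq] at hdvd
    exact Nat.pow_succ_factorization_not_dvd hne Nat.prime_two hdvd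
  obtain ⟨r, hr⟩ : ∃ r, q - 1 = 2 * (2 * r + 1) := by
    obtain ⟨c, hc⟩ := hq
    exact ⟨c - 1, by omega⟩
  have hcard : Nat.card P₀ = 2 ^ (Nat.card (GL (Fin 2) F)).factorization 2 := by
    rw [hcardP, Matrix.card_GL_field, Fin.prod_univ_two, ← hqdef]
    have e1 : q ^ 2 - q ^ ((1 : Fin 2) : ℕ) = q * (2 * (2 * r + 1)) := by
      rw [← hr, Nat.mul_sub, mul_one, pow_two]; simp
    have e0 : q ^ 2 - q ^ ((0 : Fin 2) : ℕ) = q ^ 2 - 1 := by simp
    have hqodd : ¬ 2 ∣ q := by
      obtain ⟨c, hc⟩ := hq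
      omega
    rw [e0, e1, Nat.factorization_mul hne (by positivity), Finsupp.add_apply,
      Nat.factorization_mul (by omega) (by omega), Finsupp.add_apply,
      Nat.factorization_mul (by omega) (by omega), Finsupp.add_apply,
      Nat.factorization_eq_zero_of_not_dvd hqodd, Nat.prime_two.factorization_self,
      Nat.factorization_eq_zero_of_not_dvd (by omega : ¬ 2 ∣ 2 * r + 1), zero_add, add_zero]
  obtain ⟨e⟩ := sylow_mulEquiv_of_injective 2
    ((torusN F).subtype.comp (P₀ : Subgroup (torusN F)).subtype)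
    ((torusN F).subtype_injective.comp (P₀ : Subgroup (torusN F)).subtype_injective) hcard S
  apply G3_good_of_equiv e.symm
  set i : P₀ := ⟨i₀, hP₀ (Subgroup.mem_zpowers i₀)⟩ with hidef
  set z : P₀ := i ^ 2 with hzdef
  have hzval : z.1.1.1 = -1 := iGL_sq
  have ext3 : ∀ x y : P₀, x.1.1.1 = y.1.1.1 → x = y :=
    fun x y h => Subtype.ext (Subtype.ext (Units.ext h))
  have hzc : ∀ y : P₀, z * y = y * z := by
    intro y
    apply ext3
    change z.1.1.1 * y.1.1.1 = y.1.1.1 * z.1.1.1
    rw [hzval]; simp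
  have hz1 : z ≠ 1 := by
    intro h
    have h3 : z.1.1.1 = 1 := by rw [h]; rfl
    rw [hzval] at h3
    have h4 := congrFun (congrFun h3 0) 0
    simp only [Matrix.neg_apply, Matrix.one_apply_eq] at h4
    apply h2
    linear_combination -h4
  have hz2 : z * z = 1 := by
    apply ext3
    change z.1.1.1 * z.1.1.1 = 1
    rw [hzval]; simp
  have hCT1 : ∀ x : P₀, IsCT x.1.1.1 → x * x = 1 → x = 1 ∨ x = z := by
    intro x hx h
    have h' : x.1.1.1 * x.1.1.1 = 1 := congrArg (fun w : P₀ => w.1.1.1) h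
    rcases G3_sq_one hq h2 hx h' with h5 | h5
    · left; exact ext3 _ _ h5
    · right; exact ext3 _ _ (h5.trans hzval.symm)
  obtain ⟨c, hcCT, hc4⟩ : ∃ c : P₀, IsCT c.1.1.1 ∧ c * c * (c * c) ≠ 1 := by
    by_contra hcon
    push Not at hcon
    let U : Set P₀ := {1, z, i, z * i}
    have hU : ∀ x : P₀, IsCT x.1.1.1 → x ∈ U := by
      intro x hx
      have h4 := hcon x hx
      have hx2 : IsCT (x * x).1.1.1 := hx.mul hx
      rcases hCT1 (x * x) hx2 h4 with h5 | h5
      · rcases hCT1 x hx h5 with h6 | h6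
        · left; exact h6
        · right; left; exact h6
      · have h' : x.1.1.1 * x.1.1.1 = -1 := by
          rw [← hzval, ← h5]; rfl
        rcases G3_sq_neg_one hq h2 hx h' with h6 | h6
        · right; right; left
          exact ext3 _ _ h6
        · right; right; right
          apply ext3
          change x.1.1.1 = z.1.1.1 * (iGL F).1
          rw [h6, hzval]; simp
    have hcover : (Set.univ : Set P₀) ⊆ U ∪ (fun u => u * t) '' U := by
      intro x _
      rcases x.1.2 with h | h
      · left; exact hU x h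
      · right
        refine ⟨x * t⁻¹, hU _ ?_, by simp⟩
        exact h.mul (isWT_inv t.1.1 ht)
    have hUc : U.ncard ≤ 4 := by
      refine (Set.ncard_insert_le _ _).trans ?_
      refine Nat.succ_le_succ ((Set.ncard_insert_le _ _).trans ?_)
      refine Nat.succ_le_succ ((Set.ncard_insert_le _ _).trans ?_)
      rw [Set.ncard_singleton]
    have h8 : Nat.card P₀ ≤ 8 := by
      rw [← Set.ncard_univ]
      calc (Set.univ : Set P₀).ncard ≤ (U ∪ (fun u => u * t) '' U).ncard :=
            Set.ncard_le_ncard hcover (Set.toFinite _)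
        _ ≤ U.ncard + ((fun u => u * t) '' U).ncard := Set.ncard_union_le _ _
        _ ≤ 4 + 4 := add_le_add hUc ((Set.ncard_image_le (Set.toFinite _)).trans hUc)
    have h3 : 3 ≤ (q ^ 2 - 1).factorization 2 := by
      rw [← Nat.prime_two.pow_dvd_iff_le_factorization hne]
      have e1 : q ^ 2 - 1 = (q + 1) * (q - 1) := by
        have := Nat.sq_sub_sq q 1
        simpa using this
      obtain ⟨c, hc⟩ := hq
      rw [e1, hc, hr]
      exact ⟨c * (2 * r + 1), by ring⟩
    rw [hcardP] at h8
    have h16 : 2 ^ 4 ≤ 2 ^ ((q ^ 2 - 1).factorization 2 + 1) :=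
      Nat.pow_le_pow_right (by norm_num) (by omega)
    omega
  refine ⟨Subgroup.zpowers z, ?_, ?_, ?_, i, hz1⟩
  · rw [Nat.card_zpowers]
    exact orderOf_eq_prime (by rw [pow_two]; exact hz2) hz1
  · constructor
    rintro n ⟨k, rfl⟩ g
    have h5 : Commute g (z ^ k) := (Commute.zpow_right (hzc g).symm k)
    have h6 : g * z ^ k * g⁻¹ = z ^ k := by rw [h5.eq, mul_inv_cancel_right]
    change g * z ^ k * g⁻¹ ∈ _
    rw [h6]
    exact ⟨k, rfl⟩
  · intro A hA hel
    rw [G3_elemAb_iff] at hel
    intro a ha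
    have haa : a * a = 1 := by rw [← pow_two]; exact hel.2 a ha
    rcases a.1.2 with hCT | hWT
    · rcases hCT1 a hCT haa with h | h
      · rw [h]; exact one_mem _
      · rw [h]; exact Subgroup.mem_zpowers z
    · exfalso
      apply hc4
      obtain ⟨k, hk⟩ := P₀.2 c
      have hk' : c.1.1 ^ 2 ^ k = 1 := congrArg (fun z => z.1.1) hk
      have hcac := CT_mul_WT_mul_CT hcCT hWT
      obtain ⟨ε, hεc, hε2, hε⟩ : ∃ ε : P₀, (∀ y, ε * y = y * ε) ∧ ε * ε = 1 ∧
          c * a * c = ε * a := by
        rcases det_eq_one_or_neg_one hq c.1.1 k hk' with hd | hd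
        · refine ⟨1, fun y => by simp, by simp, ?_⟩
          apply ext3
          change c.1.1.1 * a.1.1.1 * c.1.1.1 = (1 : P₀).1.1.1 * a.1.1.1
          rw [hcac, hd, one_smul]
          change a.1.1.1 = 1 * a.1.1.1
          rw [one_mul]
        · refine ⟨z, hzc, hz2, ?_⟩
          apply ext3
          change c.1.1.1 * a.1.1.1 * c.1.1.1 = z.1.1.1 * a.1.1.1
          rw [hcac, hd, hzval]; simp
      set b := c * a * c⁻¹ with hb
      have hbA : b ∈ A := hA.conj_mem a ha c
      have hbb : b * b = 1 := by rw [← pow_two]; exact hel.2 b hbA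
      have hab : a * b = b * a := hel.1 a ha b hbA
      have hbc : b * (c * c) = ε * a := by
        rw [← hε, hb]; group
      obtain ⟨u, hu⟩ : ∃ u, u = a * b := ⟨_, rfl⟩
      have huu : u * u = 1 := by
        rw [hu]
        calc a * b * (a * b) = a * (b * a) * b := by simp only [mul_assoc]
          _ = a * (a * b) * b := by rw [hab]
          _ = (a * a) * (b * b) := by simp only [mul_assoc]
          _ = 1 := by rw [haa, hbb, one_mul]
      have huc : u * (c * c) = ε := by
        rw [hu, mul_assoc, hbc, hεc a, ← mul_assoc, haa, one_mul]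
      have hcc : c * c = u * ε := by
        calc c * c = (u * u) * (c * c) := by rw [huu, one_mul]
          _ = u * (u * (c * c)) := by rw [mul_assoc]
          _ = u * ε := by rw [huc]
      rw [hcc]
      calc u * ε * (u * ε) = u * (ε * u) * ε := by simp only [mul_assoc]
        _ = u * (u * ε) * ε := by rw [hεc u]
        _ = (u * u) * (ε * ε) := by simp only [mul_assoc]
        _ = 1 := by rw [huu, hε2, one_mul]

end Cfsg.Agent.Lib.N2R
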