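import Mathlib
import Cfsg.Agent.Lib.Helper89.N2R.Defs
import Cfsg.Agent.S4624

set_option autoImplicit false

namespace Cfsg.Agent.Lib.N2R
open Function Matrix

open Cfsg.Agent.S4624 Cfsg.Agent.Lib.Helper48 in
/-- I1 -/
theorem iso_Sp {F : Type*} [Field F] [Fintype F] (hF : Odd (Fintype.card F)) (n : ℕ)
    (P : Sylow 2 (Matrix.symplecticGroup (Fin n) F)) :
    ∃ (Q : Sylow 2 (Matrix.SpecialLinearGroup (Fin 2) F)) (T : Subgroup (Equiv.Perm (Fin n))),
      Nonempty ((P : Subgroup (Matrix.symplecticGroup (Fin n) F)) ≃*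
        (Fin n → (Q : Subgroup (Matrix.SpecialLinearGroup (Fin 2) F))) ⋊[(mulAutArrow : T →*
          MulAut (Fin n → (Q : Subgroup (Matrix.SpecialLinearGroup (Fin 2) F))))] T) := by
  classical
  set q := Fintype.card F with hq
  have hq1 : 1 < q := Fintype.one_lt_card
  have h2q : ¬ 2 ∣ q := by
    rw [Nat.two_dvd_ne_zero]; exact Nat.odd_iff.1 hF
  obtain ⟨Q⟩ : Nonempty (Sylow 2 (Matrix.SpecialLinearGroup (Fin 2) F)) := inferInstance
  obtain ⟨T⟩ : Nonempty (Sylow 2 (Equiv.Perm (Fin n))) := inferInstance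
  have hne : q ^ 2 - 1 ≠ 0 := by
    have : 1 < q ^ 2 := Nat.one_lt_pow (by omega) hq1
    omega
  have hcard : Nat.card ((Fin n → (Q : Subgroup (Matrix.SpecialLinearGroup (Fin 2) F))) ⋊[(mulAutArrow :
      (T : Subgroup (Equiv.Perm (Fin n))) →* MulAut (Fin n → (Q : Subgroup (Matrix.SpecialLinearGroup (Fin 2) F))))]
      (T : Subgroup (Equiv.Perm (Fin n)))) =
      2 ^ (Nat.card (Matrix.symplecticGroup (Fin n) F)).factorization 2 := by
    rw [SemidirectProduct.card, Nat.card_fun, Q.card_eq_multiplicity, T.card_eq_multiplicity,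
      Cfsg.Agent.S0245.result hq.symm n, Cfsg.Agent.Lib.Helper7.card_SL2, Nat.card_perm,
      Nat.card_fin, ← hq]
    simp only [Nat.factorization_def _ Nat.prime_two]
    have hprod : (∏ i ∈ Finset.range n, (q ^ (2 * (i + 1)) - 1)) ≠ 0 := by
      rw [Finset.prod_ne_zero_iff]
      intro i _
      have : 1 < q ^ (2 * (i + 1)) := Nat.one_lt_pow (by omega) hq1
      omega
    have hqn : padicValNat 2 (q ^ n ^ 2) = 0 :=
      padicValNat.eq_zero_of_not_dvd (fun h => h2q (Nat.prime_two.dvd_of_dvd_pow h))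
    rw [padicValNat.mul (by omega) hne, padicValNat.mul (by positivity) hprod,
      hqn, padicValNat.eq_zero_of_not_dvd h2q, v2_prod q hF hq1 n,
      ← pow_mul, ← pow_add]
    congr 1
    ring
  have : Finite (Matrix.symplecticGroup (Fin n) F) := inferInstance
  exact ⟨Q, T, sylow_mulEquiv_of_injective 2 (spWreath (Q : Subgroup _) (T : Subgroup _))
    (spWreath_injective _ _) hcard P⟩

end Cfsg.Agent.Lib.N2R
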