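import Mathlib
import Cfsg.Agent.Lib.Helper89.N2R.Defs
import Cfsg.Agent.Lib.Helper48.GLTwoArith2

set_option autoImplicit false

namespace Cfsg.Agent.Lib.N2R
open Function Matrix

open Cfsg.Agent.Lib.Helper48 in
theorem M2_v2_pow (q : ℕ) (hq : q % 4 = 1) (hq1 : 1 < q) (j : ℕ) :
    padicValNat 2 (q ^ (j + 1) - 1) = padicValNat 2 (q - 1) + padicValNat 2 (j + 1) := by
  have hodd : Odd q := by rw [Nat.odd_iff]; omega
  rcases Nat.even_or_odd j with ⟨k, hk⟩ | ⟨k, hk⟩
  · have e : j + 1 = 2 * k + 1 := by omega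
    rw [e, v2_odd_pow' q hodd hq1 k, padicValNat.eq_zero_of_not_dvd (by omega : ¬ 2 ∣ 2 * k + 1),
      add_zero]
  · have e : j + 1 = 2 * (k + 1) := by omega
    have h1 : q ^ 2 - 1 = (q + 1) * (q - 1) := by
      have := Nat.sq_sub_sq q 1
      simpa using this
    obtain ⟨c, hc⟩ : ∃ c, q + 1 = 2 * (2 * c + 1) := ⟨q / 4, by omega⟩
    have h2 : padicValNat 2 (q + 1) = 1 := by
      rw [hc, padicValNat.mul (by norm_num) (by omega), padicValNat.self (by norm_num),
        padicValNat.eq_zero_of_not_dvd (by omega)]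
    rw [e, Cfsg.Agent.S4624.v2_pow q hodd hq1 k, h1, padicValNat.mul (by omega) (by omega), h2,
      padicValNat.mul (by norm_num) (by omega), padicValNat.self (by norm_num)]
    ring

open Cfsg.Agent.Lib.Helper48 in
/-- M2 : arithmetic -/
theorem v2_prod_one (q : ℕ) (hq : q % 4 = 1) (hq1 : 1 < q) (n : ℕ) :
    padicValNat 2 (∏ i ∈ Finset.range n, (q ^ (i + 1) - 1)) =
      n * padicValNat 2 (q - 1) + padicValNat 2 n.factorial := by
  induction n with
  | zero => simp
  | succ n ih =>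
    rw [Finset.prod_range_succ,
      padicValNat.mul (Finset.prod_ne_zero_iff.2 fun i _ => pow_sub_one_ne_zero' q hq1 i)
        (pow_sub_one_ne_zero' q hq1 _), ih, M2_v2_pow q hq hq1 n, Nat.factorial_succ,
      padicValNat.mul (by omega) (Nat.factorial_ne_zero n)]
    ring

end Cfsg.Agent.Lib.N2R
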