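import Mathlib
import Cfsg.Agent.Lib.Helper89.N2R.Defs
import Cfsg.Agent.Lib.Helper48.N2R.M1
import Cfsg.Agent.Lib.Helper48.N2R.M2
import Cfsg.Agent.Lib.Helper48.SylTorus

set_option autoImplicit false

namespace Cfsg.Agent.Lib.N2R
open Function Matrix

open Cfsg.Agent.Lib.Helper48 in
/-- I2 -/
theorem iso_GL_one {F : Type*} [Field F] [Fintype F] (hq : Fintype.card F % 4 = 1) (n : ℕ)
    (P : Sylow 2 (GL (Fin n) F)) :
    ∃ (C : Sylow 2 Fˣ) (T : Subgroup (Equiv.Perm (Fin n))),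
      Nonempty ((P : Subgroup (GL (Fin n) F)) ≃*
        (Fin n → (C : Subgroup Fˣ)) ⋊[(mulAutArrow : T →*
          MulAut (Fin n → (C : Subgroup Fˣ)))] T) := by
  classical
  set q := Fintype.card F with hqdef
  have hq1 : 1 < q := Fintype.one_lt_card
  have h2q : ¬ 2 ∣ q := by omega
  obtain ⟨C⟩ : Nonempty (Sylow 2 Fˣ) := inferInstance
  obtain ⟨T⟩ : Nonempty (Sylow 2 (Equiv.Perm (Fin n))) := inferInstance
  obtain ⟨θ, hθ⟩ := exists_mono n (C : Subgroup Fˣ) (T : Subgroup (Equiv.Perm (Fin n)))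
  have hcardW : Nat.card ((Fin n → (C : Subgroup Fˣ)) ⋊[(mulAutArrow :
      (T : Subgroup (Equiv.Perm (Fin n))) →* MulAut (Fin n → (C : Subgroup Fˣ)))]
      (T : Subgroup (Equiv.Perm (Fin n)))) =
      2 ^ (Nat.card (GL (Fin n) F)).factorization 2 := by
    rw [SemidirectProduct.card, Nat.card_fun, C.card_eq_multiplicity, T.card_eq_multiplicity,
      Nat.card_perm, Nat.card_fin, Matrix.card_GL_field, Nat.card_eq_fintype_card (α := Fˣ),
      Fintype.card_units, ← hqdef]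
    simp only [Nat.factorization_def _ Nat.prime_two]
    rw [v2_card_GL_formula q (by omega) h2q, v2_prod_one q hq hq1 n, ← pow_mul, ← pow_add]
    congr 1
    ring
  exact ⟨C, T, sylow_mulEquiv_of_injective 2 θ hθ hcardW P⟩

end Cfsg.Agent.Lib.N2R
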