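import Mathlib
import Cfsg.Agent.Lib.Helper89.N2R.Defs
import Cfsg.Agent.Lib.Helper48.SLWreath
import Cfsg.Agent.Lib.Helper48.GLTwoArith
import Cfsg.Agent.Lib.Helper48.SylTorus

set_option autoImplicit false

namespace Cfsg.Agent.Lib.N2R
open Function Matrix

open Cfsg.Agent.Lib.Helper48 in
/-- I3 -/
theorem iso_GL_three_even {F : Type*} [Field F] [Fintype F] (hq : 4 ∣ Fintype.card F + 1) (m : ℕ)
    (P : Sylow 2 (GL (Fin (2 * m)) F)) :
    ∃ (S : Sylow 2 (GL (Fin 2) F)) (T : Subgroup (Equiv.Perm (Fin m))),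
      Nonempty ((P : Subgroup (GL (Fin (2 * m)) F)) ≃*
        (Fin m → (S : Subgroup (GL (Fin 2) F))) ⋊[(mulAutArrow : T →*
          MulAut (Fin m → (S : Subgroup (GL (Fin 2) F))))] T) := by
  classical
  set q := Fintype.card F with hqdef
  have hq1 : 1 < q := Fintype.one_lt_card
  have h2q : ¬ 2 ∣ q := by omega
  obtain ⟨S⟩ : Nonempty (Sylow 2 (GL (Fin 2) F)) := inferInstance
  obtain ⟨T⟩ : Nonempty (Sylow 2 (Equiv.Perm (Fin m))) := inferInstance
  have hcardι : Fintype.card (Fin m ⊕ Fin m) = 2 * m := by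
    simp; ring
  let e := Fintype.equivFinOfCardEq hcardι
  let θ := (glReindex (F := F) e).toMonoidHom.comp
    (glWreath (S : Subgroup (GL (Fin 2) F)) (T : Subgroup (Equiv.Perm (Fin m))))
  have hθ : Function.Injective θ := (glReindex (F := F) e).injective.comp (glWreath_injective _ _)
  have hcardW : Nat.card ((Fin m → (S : Subgroup (GL (Fin 2) F))) ⋊[(mulAutArrow :
      (T : Subgroup (Equiv.Perm (Fin m))) →* MulAut (Fin m → (S : Subgroup (GL (Fin 2) F))))]
      (T : Subgroup (Equiv.Perm (Fin m)))) =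
      2 ^ (Nat.card (GL (Fin (2 * m)) F)).factorization 2 := by
    rw [SemidirectProduct.card, Nat.card_fun, S.card_eq_multiplicity, T.card_eq_multiplicity,
      Nat.card_perm, Nat.card_fin, Matrix.card_GL_field, Matrix.card_GL_field, ← hqdef]
    simp only [Nat.factorization_def _ Nat.prime_two]
    rw [v2_card_GL_formula q (by omega) h2q, v2_card_GL_formula q (by omega) h2q,
      v2_prod_even q hq m]
    have h1 := v2_prod_even q hq 1
    rw [mul_one] at h1
    rw [h1, ← pow_mul, ← pow_add]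
    congr 1
    simp
    ring
  exact ⟨S, T, sylow_mulEquiv_of_injective 2 θ hθ hcardW P⟩

end Cfsg.Agent.Lib.N2R
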