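import Mathlib
import Cfsg.Agent.Lib.Helper89.N2R.Defs
import Cfsg.Agent.Lib.Helper48.SLWreath
import Cfsg.Agent.Lib.Helper48.GLTwoArith
import Cfsg.Agent.Lib.Helper48.SylTorus

set_option autoImplicit false

namespace Cfsg.Agent.Lib.N2R
open Function Matrix

/-- `(A, z) ↦ diag(A, z)` -/
def I4_blockM (ι : Type*) [Fintype ι] [DecidableEq ι] (F : Type*) [Field F] :
    GL ι F × Fˣ →* Matrix (ι ⊕ Unit) (ι ⊕ Unit) F where
  toFun x := fromBlocks x.1.1 0 0 (x.2.1 • (1 : Matrix Unit Unit F))
  map_one' := by simp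
  map_mul' x y := by simp [fromBlocks_multiply, smul_smul, mul_comm]

theorem I4_blockM_injective (ι : Type*) [Fintype ι] [DecidableEq ι] (F : Type*) [Field F] :
    Injective (I4_blockM ι F) := by
  intro x y h
  have h1 : fromBlocks x.1.1 0 0 (x.2.1 • (1 : Matrix Unit Unit F)) =
      fromBlocks y.1.1 0 0 (y.2.1 • (1 : Matrix Unit Unit F)) := h
  rw [fromBlocks_inj] at h1
  apply Prod.ext
  · exact Units.ext h1.1
  · apply Units.ext
    have := congrFun (congrFun h1.2.2.2 ()) ()
    simpa using this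

open Cfsg.Agent.Lib.Helper48 in
/-- I4 -/
theorem iso_GL_three_odd {F : Type*} [Field F] [Fintype F] (hq : 4 ∣ Fintype.card F + 1) (m : ℕ)
    (P : Sylow 2 (GL (Fin (2 * m + 1)) F)) :
    ∃ (S : Sylow 2 (GL (Fin 2) F)) (T : Subgroup (Equiv.Perm (Fin m))),
      Nonempty ((P : Subgroup (GL (Fin (2 * m + 1)) F)) ≃*
        ((Fin m → (S : Subgroup (GL (Fin 2) F))) ⋊[(mulAutArrow : T →*
          MulAut (Fin m → (S : Subgroup (GL (Fin 2) F))))] T) × Multiplicative (ZMod 2)) := by
  classical
  set q := Fintype.card F with hqdef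
  have hq1 : 1 < q := Fintype.one_lt_card
  have h2q : ¬ 2 ∣ q := by omega
  obtain ⟨S⟩ : Nonempty (Sylow 2 (GL (Fin 2) F)) := inferInstance
  obtain ⟨T⟩ : Nonempty (Sylow 2 (Equiv.Perm (Fin m))) := inferInstance
  have hneg : (-1 : Fˣ) ≠ 1 := by
    intro h
    have h1 : (-1 : F) = 1 := congrArg Units.val h
    have h2 : ringChar F = 2 := by
      rw [← neg_one_eq_one_iff]; exact h1
    have h3 := FiniteField.even_card_iff_char_two.1 h2
    omega
  have hord : orderOf (-1 : Fˣ) = 2 := orderOf_eq_prime (by simp) hneg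
  obtain ⟨ι₂, hι₂⟩ := exists_injective_zmod_hom (-1 : Fˣ) 2 hord
  have hcardι : Fintype.card ((Fin m ⊕ Fin m) ⊕ Unit) = 2 * m + 1 := by
    simp; ring
  let e := Fintype.equivFinOfCardEq hcardι
  let θ := (glReindex (F := F) e).toMonoidHom.comp ((I4_blockM (Fin m ⊕ Fin m) F).toHomUnits.comp
    (MonoidHom.prodMap (glWreath (S : Subgroup (GL (Fin 2) F))
      (T : Subgroup (Equiv.Perm (Fin m)))) ι₂))
  have hθ : Function.Injective θ := by
    apply (glReindex (F := F) e).injective.comp
    have h1 : Function.Injective (I4_blockM (Fin m ⊕ Fin m) F).toHomUnits := by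
      intro a b hab
      apply I4_blockM_injective
      exact congrArg Units.val hab
    have h2 : Function.Injective (MonoidHom.prodMap (glWreath (S : Subgroup (GL (Fin 2) F))
      (T : Subgroup (Equiv.Perm (Fin m)))) ι₂) :=
      Function.Injective.prodMap (glWreath_injective _ _) hι₂
    exact h1.comp h2
  have hcardW : Nat.card (((Fin m → (S : Subgroup (GL (Fin 2) F))) ⋊[(mulAutArrow :
      (T : Subgroup (Equiv.Perm (Fin m))) →* MulAut (Fin m → (S : Subgroup (GL (Fin 2) F))))]
      (T : Subgroup (Equiv.Perm (Fin m)))) × Multiplicative (ZMod 2)) =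
      2 ^ (Nat.card (GL (Fin (2 * m + 1)) F)).factorization 2 := by
    have hz : Nat.card (Multiplicative (ZMod 2)) = 2 := Nat.card_zmod 2
    rw [Nat.card_prod, hz, SemidirectProduct.card, Nat.card_fun, S.card_eq_multiplicity,
      T.card_eq_multiplicity,
      Nat.card_perm, Nat.card_fin, Matrix.card_GL_field, Matrix.card_GL_field, ← hqdef]
    simp only [Nat.factorization_def _ Nat.prime_two]
    rw [v2_card_GL_formula q (by omega) h2q, v2_card_GL_formula q (by omega) h2q,
      v2_prod_odd q hq m]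
    have h1 := v2_prod_even q hq 1
    rw [mul_one] at h1
    rw [h1, ← pow_mul, ← pow_add, ← pow_succ]
    congr 1
    simp
    ring
  exact ⟨S, T, sylow_mulEquiv_of_injective 2 θ hθ hcardW P⟩

end Cfsg.Agent.Lib.N2R
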